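import Mathlib
import Cfsg.Agent.Lib.Helper75.LW.Defs

/-!
# S0748 (Livingstone–Wagner, `k`-homogeneous ⟹ `k`-transitive for `k ≥ 5`): interface of the
team project "LW48"

Route: S0746 gives `(k-1)`-transitivity; the hub S0747 gives a `k`-set on which every even
permutation is induced; homogeneity moves this to every `k`-set (`AltAll G k`); finally some odd
permutation of some `k`-set is induced (`OddSome G k`), by an involution with many fixed points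
(`k ≥ 6`) or by a Klein four-group argument (`k = 5`).  Only definitions and package statements.
-/

set_option autoImplicit false

namespace Cfsg.Agent.Lib.Helper42.LW48

open Cfsg.Agent.Lib.Helper75.LW

universe u

section defs

variable {α : Type u}

/-- the permutation `σ` of the finite set `D` is induced by an element of `G` -/
def Ind (G : Subgroup (Equiv.Perm α)) (D : Finset α) (σ : Equiv.Perm ↥D) : Prop :=
  ∃ g ∈ G, ∀ x : ↥D, g (x : α) = σ x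

/-- every even permutation of every `k`-set is induced by `G` -/
def AltAll [DecidableEq α] (G : Subgroup (Equiv.Perm α)) (k : ℕ) : Prop :=
  ∀ D : Finset α, D.card = k → ∀ σ : Equiv.Perm ↥D, σ ∈ alternatingGroup ↥D → Ind G D σ

/-- some odd permutation of some `k`-set is induced by `G` -/
def OddSome [DecidableEq α] (G : Subgroup (Equiv.Perm α)) (k : ℕ) : Prop :=
  ∃ D : Finset α, D.card = k ∧ ∃ σ : Equiv.Perm ↥D, Equiv.Perm.sign σ = -1 ∧ Ind G D σ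

end defs

/-- the statement of S0747 (the hub) -/
def Hub : Prop := ∀ {α : Type u} [Fintype α] [DecidableEq α] (G : Subgroup (Equiv.Perm α))
  {k : ℕ}, 4 ≤ k → k < Fintype.card α → MulAction.IsMultiplyPretransitive G α k →
  ∃ Δ : Finset α, Δ.card = k + 1 ∧ ∀ σ : Equiv.Perm ↥Δ, σ ∈ alternatingGroup ↥Δ →
    ∃ g ∈ G, ∀ x : ↥Δ, g (x : α) = σ x

/-- the statement of S0748 -/
def Goal : Prop := ∀ {α : Type u} [Fintype α] [DecidableEq α] (G : Subgroup (Equiv.Perm α))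
  {k : ℕ}, 5 ≤ k → 2 * k ≤ Fintype.card α →
  MulAction.IsPretransitive G (Set.powersetCard α k) → MulAction.IsMultiplyPretransitive G α k

/-! ## Transport and symmetric group -/

/-- [TR] transport of induced permutations along an element of `G` mapping `D` onto `D'` -/
def PkgTr : Prop := ∀ {α : Type u} [Fintype α] [DecidableEq α] (G : Subgroup (Equiv.Perm α))
  (D D' : Finset α) (g₀ : Equiv.Perm α), g₀ ∈ G → (∀ a, a ∈ D ↔ g₀ a ∈ D') →
  ∀ σ : Equiv.Perm ↥D, ∃ σ' : Equiv.Perm ↥D',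
    Equiv.Perm.sign σ' = Equiv.Perm.sign σ ∧ (Ind G D σ ↔ Ind G D' σ')

/-- [SYM] homogeneous + all even permutations + one odd permutation ⟹ transitive on tuples -/
def PkgSym : Prop := PkgTr.{u} →
  ∀ {α : Type u} [Fintype α] [DecidableEq α] (G : Subgroup (Equiv.Perm α)) (k : ℕ),
    HH G k → AltAll G k → OddSome G k → HT G k

/-! ## Involutions -/

/-- [SIGN] an involution preserving `D` and moving exactly `2 * i` points of `D`, `i` odd,
induces an odd permutation of `D` -/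
def PkgSign : Prop := ∀ {α : Type u} [Fintype α] [DecidableEq α] (t : Equiv.Perm α)
  (D : Finset α) (i : ℕ), t * t = 1 → (∀ a, t a ∈ D ↔ a ∈ D) → Odd i →
  (D.filter (fun a => t a ≠ a)).card = 2 * i →
  ∃ σ : Equiv.Perm ↥D, Equiv.Perm.sign σ = -1 ∧ ∀ x : ↥D, t (x : α) = σ x

/-- [INVSET] an invariant `k`-set of an involution containing exactly `i` of its `2`-cycles -/
def PkgInvSet : Prop := ∀ {α : Type u} [Fintype α] [DecidableEq α] (t : Equiv.Perm α)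
  (k i : ℕ), t * t = 1 → 2 * i ≤ k →
  2 * i ≤ (Finset.univ.filter (fun a => t a ≠ a)).card →
  k ≤ 2 * i + (Finset.univ.filter (fun a => t a = a)).card →
  ∃ D : Finset α, D.card = k ∧ (∀ a, t a ∈ D ↔ a ∈ D) ∧
    (D.filter (fun a => t a ≠ a)).card = 2 * i

/-- [K6] for `k ≥ 6` a `(k-1)`-transitive group of degree `≥ 2k` induces an odd permutation on
some `k`-set -/
def PkgK6 : Prop := PkgInvSet.{u} → PkgSign.{u} →
  ∀ {α : Type u} [Fintype α] [DecidableEq α] (G : Subgroup (Equiv.Perm α)) (k : ℕ),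
    6 ≤ k → 2 * k ≤ Fintype.card α → HT G (k - 1) → OddSome G k

/-! ## The case `k = 5` -/

/-- [K5NOINV] -/
def PkgK5NoInv : Prop := PkgInvSet.{u} → PkgSign.{u} →
  ∀ {α : Type u} [Fintype α] [DecidableEq α] (G : Subgroup (Equiv.Perm α)),
    ¬ OddSome G 5 → NoInv G 3

/-- [K5ODD] -/
def PkgK5Odd : Prop := ∀ {α : Type u} [Fintype α] [DecidableEq α] (G : Subgroup (Equiv.Perm α))
  (s : Finset α), 3 ≤ s.card → NoInv G 3 → Odd (Nat.card (PS G s))

/-- [K5FIX] an element acting as `(a b)(c d)` and fixing `y` -/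
def PkgK5Fix : Prop := ∀ {α : Type u} [Fintype α] [DecidableEq α] (G : Subgroup (Equiv.Perm α)),
  AltAll G 5 → ∀ a b c d y : α, a ≠ b → a ≠ c → a ≠ d → a ≠ y → b ≠ c → b ≠ d → b ≠ y →
    c ≠ d → c ≠ y → d ≠ y →
    ∃ g ∈ G, g a = b ∧ g b = a ∧ g c = d ∧ g d = c ∧ g y = y

/-- [K5V4] a Klein four-group of `G` inducing the regular four-group on `{a, b, c, d}` -/
def PkgK5V4 : Prop := ∀ {α : Type u} [Fintype α] [DecidableEq α] (G : Subgroup (Equiv.Perm α))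
  (a b c d : α), a ≠ b → a ≠ c → a ≠ d → b ≠ c → b ≠ d → c ≠ d → HT G 4 →
  Odd (Nat.card (PS G {a, b, c, d})) →
  ∃ v₁ ∈ G, ∃ v₂ ∈ G, v₁ * v₁ = 1 ∧ v₂ * v₂ = 1 ∧ v₁ * v₂ = v₂ * v₁ ∧
    v₁ a = b ∧ v₁ b = a ∧ v₁ c = d ∧ v₁ d = c ∧ v₂ a = c ∧ v₂ c = a ∧ v₂ b = d ∧ v₂ d = b

/-- [K5GEN] a group of odd order normalised by a four-group is generated by the centralisers of
the three involutions -/
def PkgK5Gen : Prop := ∀ {Γ : Type u} [Group Γ] [Finite Γ] (K St : Subgroup Γ) (v₁ v₂ : Γ),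
  v₁ * v₁ = 1 → v₂ * v₂ = 1 → v₁ * v₂ = v₂ * v₁ → v₁ ≠ 1 → v₂ ≠ 1 → v₁ ≠ v₂ →
  (∀ κ ∈ K, v₁ * κ * v₁⁻¹ ∈ K) → (∀ κ ∈ K, v₂ * κ * v₂⁻¹ ∈ K) → Odd (Nat.card K) →
  (∀ κ ∈ K, v₁ * κ = κ * v₁ → κ ∈ St) → (∀ κ ∈ K, v₂ * κ = κ * v₂ → κ ∈ St) →
  (∀ κ ∈ K, (v₁ * v₂) * κ = κ * (v₁ * v₂) → κ ∈ St) → K ≤ St

/-- [K5ORB] a four-group acting on an orbit of a group of odd order has a fixed point there -/
def PkgK5Orb : Prop := ∀ {α : Type u} [Fintype α] [DecidableEq α]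
  (K : Subgroup (Equiv.Perm α)) (v₁ v₂ : Equiv.Perm α) (y : α), Odd (Nat.card K) →
  v₁ * v₁ = 1 → v₂ * v₂ = 1 → v₁ * v₂ = v₂ * v₁ →
  (∀ κ ∈ K, ∃ κ' ∈ K, v₁ (κ y) = κ' y) → (∀ κ ∈ K, ∃ κ' ∈ K, v₂ (κ y) = κ' y) →
  ∃ κ₀ ∈ K, v₁ (κ₀ y) = κ₀ y ∧ v₂ (κ₀ y) = κ₀ y

/-- [K5CF] an element of odd order commuting with an involution `v ≠ 1` of `G` fixes every
fixed point of `v` (no involution of `G` fixes three points) -/
def PkgK5CF : Prop := ∀ {α : Type u} [Fintype α] [DecidableEq α] (G : Subgroup (Equiv.Perm α))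
  (v κ : Equiv.Perm α) (e : α), NoInv G 3 → v ∈ G → v * v = 1 → v ≠ 1 → Odd (orderOf κ) →
  v * κ = κ * v → v e = e → κ e = e

/-- [K5END] the final contradiction for `k = 5` -/
def PkgK5End : Prop := PkgK5Gen.{u} → PkgK5Orb.{u} → PkgK5CF.{u} →
  ∀ {α : Type u} [Fintype α] [DecidableEq α] (G : Subgroup (Equiv.Perm α)) (a b c d : α)
    (v₁ v₂ : Equiv.Perm α), a ≠ b → a ≠ c → a ≠ d → b ≠ c → b ≠ d → c ≠ d →
    7 ≤ Fintype.card α → NoInv G 3 → Odd (Nat.card (PS G {a, b, c, d})) →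
    v₁ ∈ G → v₂ ∈ G → v₁ * v₁ = 1 → v₂ * v₂ = 1 → v₁ * v₂ = v₂ * v₁ →
    v₁ a = b → v₁ b = a → v₁ c = d → v₁ d = c → v₂ a = c → v₂ c = a → v₂ b = d → v₂ d = b →
    (∀ y, y ≠ a → y ≠ b → y ≠ c → y ≠ d →
      ∃ g ∈ G, g a = b ∧ g b = a ∧ g c = d ∧ g d = c ∧ g y = y) →
    (∀ y, y ≠ a → y ≠ b → y ≠ c → y ≠ d →
      ∃ g ∈ G, g a = c ∧ g c = a ∧ g b = d ∧ g d = b ∧ g y = y) →
    False

/-- [K5] for `k = 5` -/
def PkgK5 : Prop := PkgK5NoInv.{u} → PkgK5Odd.{u} → PkgK5Fix.{u} → PkgK5V4.{u} → PkgK5End.{u} →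
  PkgInvSet.{u} → PkgSign.{u} → PkgK5Gen.{u} → PkgK5Orb.{u} → PkgK5CF.{u} →
  ∀ {α : Type u} [Fintype α] [DecidableEq α] (G : Subgroup (Equiv.Perm α)),
    10 ≤ Fintype.card α → HT G 4 → AltAll G 5 → OddSome G 5

end Cfsg.Agent.Lib.Helper42.LW48
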