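import Mathlib
import Cfsg.Agent.Lib.Helper42.LW48.Defs
import Cfsg.Agent.Lib.Helper75.LW.All

/-!
# S0748 (project LW48): the assembly, from the statements of S0746 and S0747 and the packages
-/

set_option autoImplicit false

namespace Cfsg.Agent.Lib.Helper42.LW48

open Cfsg.Agent.Lib.Helper75.LW

universe u

/-- the statement of S0746 -/
def Prev : Prop := ∀ {α : Type u} [Fintype α] [DecidableEq α] (G : Subgroup (Equiv.Perm α))
  {k : ℕ}, 2 ≤ k → 2 * k ≤ Fintype.card α →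
  MulAction.IsPretransitive G (Set.powersetCard α k) →
  MulAction.IsMultiplyPretransitive G α (k - 1)

/-- the case `k = 5`, as used in the assembly -/
def Case5 : Prop := ∀ {α : Type u} [Fintype α] [DecidableEq α] (G : Subgroup (Equiv.Perm α)),
  10 ≤ Fintype.card α → HT G 4 → AltAll G 5 → OddSome G 5

theorem goal_of (prev : Prev.{u}) (hub : Hub.{u}) (hTr : PkgTr.{u}) (hSym : PkgSym.{u})
    (hInv : PkgInvSet.{u}) (hSign : PkgSign.{u}) (hK6 : PkgK6.{u}) (hK5 : Case5.{u}) :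
    Goal.{u} := by
  intro α _ _ G k hk hkn hh
  have hHH : HH G k := (allBrH G k).mp hh
  have hT1 : HT G (k - 1) := (allBrT G (k - 1)).mp (prev G (by omega) hkn hh)
  obtain ⟨Δ₀, hΔ₀, hAlt₀⟩ :=
    hub G (k := k - 1) (by omega) (by omega) ((allBrT G (k - 1)).mpr hT1)
  have hΔ₀' : Δ₀.card = k := by omega
  have hAlt : AltAll G k := by
    intro D hD σ hσ
    obtain ⟨g₀, hg₀, hg₀'⟩ := hHH D Δ₀ hD hΔ₀'
    obtain ⟨σ', hs, hiff⟩ := hTr G D Δ₀ g₀ hg₀ hg₀' σ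
    refine hiff.mpr (hAlt₀ σ' ?_)
    rw [Equiv.Perm.mem_alternatingGroup] at hσ ⊢
    rw [hs, hσ]
  have hOdd : OddSome G k := by
    rcases Nat.lt_or_ge k 6 with h6 | h6
    · have hk5 : k = 5 := by omega
      subst hk5
      exact hK5 G (by omega) hT1 hAlt
    · exact hK6 hInv hSign G k h6 hkn hT1
  exact (allBrT G k).mpr (hSym hTr G k hHH hAlt hOdd)

/-- [K5] the assembly of the case `k = 5` -/
theorem pkgK5 : PkgK5.{u} := by
  intro hNoInv hOdd hFix hV4 hEnd hInv hSign hGen hOrb hCF α _ _ G hn hT4 hAlt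
  by_contra hno
  have hNI : NoInv G 3 := hNoInv hInv hSign G hno
  obtain ⟨f⟩ : Nonempty (Fin 4 ↪ α) :=
    Function.Embedding.nonempty_of_card_le (by simp only [Fintype.card_fin]; omega)
  have hne : ∀ i j : Fin 4, i ≠ j → f i ≠ f j := fun i j hij h => hij (f.injective h)
  have hab : f 0 ≠ f 1 := hne _ _ (by decide)
  have hac : f 0 ≠ f 2 := hne _ _ (by decide)
  have had : f 0 ≠ f 3 := hne _ _ (by decide)
  have hbc : f 1 ≠ f 2 := hne _ _ (by decide)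
  have hbd : f 1 ≠ f 3 := hne _ _ (by decide)
  have hcd : f 2 ≠ f 3 := hne _ _ (by decide)
  have hcard : ({f 0, f 1, f 2, f 3} : Finset α).card = 4 := by
    rw [Finset.card_insert_of_notMem, Finset.card_insert_of_notMem,
      Finset.card_insert_of_notMem, Finset.card_singleton]
    · simp [hcd]
    · simp [hbc, hbd]
    · simp [hab, hac, had]
  have hK : Odd (Nat.card (PS G {f 0, f 1, f 2, f 3})) :=
    hOdd G {f 0, f 1, f 2, f 3} (by omega) hNI
  obtain ⟨v₁, hv₁, v₂, hv₂, h11, h22, h12, e1, e2, e3, e4, e5, e6, e7, e8⟩ :=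
    hV4 G (f 0) (f 1) (f 2) (f 3) hab hac had hbc hbd hcd hT4 hK
  exact hEnd hGen hOrb hCF G (f 0) (f 1) (f 2) (f 3) v₁ v₂ hab hac had hbc hbd hcd (by omega)
    hNI hK hv₁ hv₂ h11 h22 h12 e1 e2 e3 e4 e5 e6 e7 e8
    (fun y ya yb yc yd => hFix G hAlt (f 0) (f 1) (f 2) (f 3) y hab hac had (Ne.symm ya) hbc hbd
      (Ne.symm yb) hcd (Ne.symm yc) (Ne.symm yd))
    (fun y ya yb yc yd => hFix G hAlt (f 0) (f 2) (f 1) (f 3) y hac hab had (Ne.symm ya)
      (Ne.symm hbc) hcd (Ne.symm yc) hbd (Ne.symm yb) (Ne.symm yd))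

/-- `Case5` from the packages -/
theorem case5_of (hNoInv : PkgK5NoInv.{u}) (hOdd : PkgK5Odd.{u}) (hFix : PkgK5Fix.{u})
    (hV4 : PkgK5V4.{u}) (hEnd : PkgK5End.{u}) (hInv : PkgInvSet.{u}) (hSign : PkgSign.{u})
    (hGen : PkgK5Gen.{u}) (hOrb : PkgK5Orb.{u}) (hCF : PkgK5CF.{u}) : Case5.{u} :=
  fun {_} _ _ G hn hT4 hAlt =>
    pkgK5 hNoInv hOdd hFix hV4 hEnd hInv hSign hGen hOrb hCF G hn hT4 hAlt

/-- S0748 from S0746, S0747 and all the packages -/
theorem goal_of_all (prev : Prev.{u}) (hub : Hub.{u}) (hTr : PkgTr.{u}) (hSym : PkgSym.{u})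
    (hInv : PkgInvSet.{u}) (hSign : PkgSign.{u}) (hK6 : PkgK6.{u})
    (hNoInv : PkgK5NoInv.{u}) (hOdd : PkgK5Odd.{u}) (hFix : PkgK5Fix.{u})
    (hV4 : PkgK5V4.{u}) (hEnd : PkgK5End.{u})
    (hGen : PkgK5Gen.{u}) (hOrb : PkgK5Orb.{u}) (hCF : PkgK5CF.{u}) : Goal.{u} :=
  goal_of prev hub hTr hSym hInv hSign hK6
    (case5_of hNoInv hOdd hFix hV4 hEnd hInv hSign hGen hOrb hCF)

end Cfsg.Agent.Lib.Helper42.LW48
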